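import Mathlib.Algebra.Category.Ring.Under.Basic
import Mathlib.Algebra.Category.Ring.Constructions
import Mathlib.CategoryTheory.Filtered.Basic
import Mathlib.RingTheory.FinitePresentation

/-! Directed systems of algebras as colimits, and fibre products of algebras. -/

set_option autoImplicit false
universe u
open CategoryTheory CategoryTheory.Limits

namespace Groth.Agent.PairColim11

variable {R : Type u} [CommRing R] {I : Type u} [Preorder I]

/-- The diagram of a directed system of algebras. -/
noncomputable def system (G : I → Type u) [∀ i, CommRing (G i)] [∀ i, Algebra R (G i)]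
    (t : ∀ i j, i ≤ j → (G i →ₐ[R] G j)) (hid : ∀ i x, t i i le_rfl x = x)
    (hcomp : ∀ i j k (h₁ : i ≤ j) (h₂ : j ≤ k) x, t j k h₂ (t i j h₁ x) = t i k (h₁.trans h₂) x) :
    I ⥤ Under (CommRingCat.of R) where
  obj i := CommRingCat.mkUnder (CommRingCat.of R) (G i)
  map {i j} φ := (t i j φ.le).toUnder
  map_id i := by
    apply CommRingCat.mkUnder_ext; intro a
    exact hid i a
  map_comp {i j k} φ ψ := by
    apply CommRingCat.mkUnder_ext; intro a
    exact (hcomp i j k φ.le ψ.le a).symm

theorem nonempty_isColimit [Nonempty I] [IsDirected I (· ≤ ·)] (D : I ⥤ Under (CommRingCat.of R))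
    {A : Type u} [CommRing A] [Algebra R A]
    (c : D ⟶ (Functor.const I).obj (Under.mk (CommRingCat.ofHom (algebraMap R A))))
    (hsurj : ∀ a : A, ∃ i, ∃ x : (D.obj i).right, (c.app i).right.hom x = a)
    (hker : ∀ i (x : (D.obj i).right), (c.app i).right.hom x = 0 →
      ∃ j, ∃ h : i ≤ j, (D.map (homOfLE h)).right.hom x = 0) :
    Nonempty (IsColimit (Cocone.mk _ c)) := by
  classical
  choose idx rep hrep using hsurj
  have hg : ∀ i j (h : i ≤ j) (x : (D.obj i).right), (c.app j).right.hom ((D.map (homOfLE h)).right.hom x) = (c.app i).right.hom x :=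
    fun i j h x => congrArg (fun q => q.right.hom x) (c.naturality (homOfLE h))
  have compat : ∀ (s : Cocone D) i j (h : i ≤ j) (x : (D.obj i).right),
      (s.ι.app j).right.hom ((D.map (homOfLE h)).right.hom x) = (s.ι.app i).right.hom x :=
    fun s i j h x => congrArg (fun q => q.right.hom x) (s.w (homOfLE h))
  have well : ∀ (s : Cocone D) i j (x : (D.obj i).right) (y : (D.obj j).right),
      (c.app i).right.hom x = (c.app j).right.hom y → (s.ι.app i).right.hom x = (s.ι.app j).right.hom y := by
    intro s i j x y hxy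
    obtain ⟨m, h1, h2⟩ := directed_of (· ≤ ·) i j
    obtain ⟨m', hm', hz⟩ := hker m ((D.map (homOfLE h1)).right.hom x - (D.map (homOfLE h2)).right.hom y) (by
      rw [map_sub, hg, hg, hxy, sub_self])
    have := congrArg (s.ι.app m').right.hom hz
    rw [compat, map_zero, map_sub, compat, compat] at this
    exact sub_eq_zero.mp this
  let desc : ∀ s : Cocone D, A →+* s.pt.right := fun s =>
    { toFun := fun a => (s.ι.app (idx a)).right.hom (rep a)
      map_one' := by
        obtain ⟨i⟩ := ‹Nonempty I›
        rw [well s (idx 1) i (rep 1) 1 (by rw [hrep, map_one])]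
        exact map_one _
      map_mul' := fun a b => by
        obtain ⟨m, h1, h2⟩ := directed_of (· ≤ ·) (idx a) (idx b)
        rw [well s (idx (a * b)) m (rep (a * b))
          ((D.map (homOfLE h1)).right.hom (rep a) * (D.map (homOfLE h2)).right.hom (rep b))
          (by rw [hrep, map_mul, hg, hg, hrep, hrep]), map_mul, compat, compat]
      map_zero' := by
        obtain ⟨i⟩ := ‹Nonempty I›
        rw [well s (idx 0) i (rep 0) 0 (by rw [hrep, map_zero])]
        exact map_zero _
      map_add' := fun a b => by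
        obtain ⟨m, h1, h2⟩ := directed_of (· ≤ ·) (idx a) (idx b)
        rw [well s (idx (a + b)) m (rep (a + b))
          ((D.map (homOfLE h1)).right.hom (rep a) + (D.map (homOfLE h2)).right.hom (rep b))
          (by rw [hrep, map_add, hg, hg, hrep, hrep]), map_add, compat, compat] }
  refine ⟨{ desc := fun s => Under.homMk (CommRingCat.ofHom (desc s)) ?_, fac := fun s i => ?_, uniq := fun s m hm => ?_ }⟩
  · ext r
    obtain ⟨i⟩ := ‹Nonempty I›
    have e1 : (c.app i).right.hom ((D.obj i).hom.hom r) = algebraMap R A r :=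
      congrArg (fun q => q r) (Under.w (c.app i))
    show (s.ι.app (idx (algebraMap R A r))).right.hom (rep _) = s.pt.hom.hom r
    rw [well s _ i _ ((D.obj i).hom.hom r) ((hrep _).trans e1.symm)]
    exact congrArg (fun q => q r) (Under.w (s.ι.app i))
  · apply Under.UnderMorphism.ext
    refine CommRingCat.hom_ext (RingHom.ext fun x => ?_)
    exact well s _ _ _ _ (hrep _)
  · apply Under.UnderMorphism.ext
    refine CommRingCat.hom_ext (RingHom.ext fun a => ?_)
    show _ = (s.ι.app (idx a)).right.hom (rep a)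
    rw [← hm (idx a)]
    show m.right.hom a = m.right.hom ((c.app (idx a)).right.hom (rep a))
    rw [hrep]

section pullback

variable {B D D' P : Type u} [CommRing B] [CommRing D] [CommRing D'] [CommRing P]
  [Algebra R B] [Algebra R D] [Algebra R D'] [Algebra R P]

/-- The fibre product of two algebra maps. -/
noncomputable abbrev fib (f : B →ₐ[R] D) (i : D' →ₐ[R] D) : Subalgebra R (B × D') :=
  AlgHom.equalizer (f.comp (AlgHom.fst R B D')) (i.comp (AlgHom.snd R B D'))

noncomputable def fibFst (f : B →ₐ[R] D) (i : D' →ₐ[R] D) : fib f i →ₐ[R] B :=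
  (AlgHom.fst R B D').comp (fib f i).val

noncomputable def fibSnd (f : B →ₐ[R] D) (i : D' →ₐ[R] D) : fib f i →ₐ[R] D' :=
  (AlgHom.snd R B D').comp (fib f i).val

theorem isPullback_fib (f : B →ₐ[R] D) (i : D' →ₐ[R] D) :
    IsPullback (CommRingCat.ofHom (fibFst f i).toRingHom) (CommRingCat.ofHom (fibSnd f i).toRingHom)
      (CommRingCat.ofHom f.toRingHom) (CommRingCat.ofHom i.toRingHom) := by
  refine IsPullback.of_isLimit' ⟨?_⟩ (PullbackCone.IsLimit.mk _ (fun s => ?_) (fun s => ?_) (fun s => ?_) ?_)
  · ext x; exact x.2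
  · exact CommRingCat.ofHom ((s.fst.hom.prod s.snd.hom).codRestrict (fib f i)
      fun x => RingHom.congr_fun (congrArg CommRingCat.Hom.hom s.condition) x)
  · rfl
  · rfl
  · intro s m h1 h2
    ext x
    · exact congrArg (fun q => q x) (congrArg CommRingCat.Hom.hom h1)
    · exact congrArg (fun q => q x) (congrArg CommRingCat.Hom.hom h2)

/-- A fibre product ring is the equalizer in the product. -/
theorem exists_algEquiv_fib (f : B →ₐ[R] D) (i : D' →ₐ[R] D) (q₁ : P →ₐ[R] B) (q₂ : P →ₐ[R] D')
    (hP : IsPullback (CommRingCat.ofHom q₁.toRingHom) (CommRingCat.ofHom q₂.toRingHom)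
      (CommRingCat.ofHom f.toRingHom) (CommRingCat.ofHom i.toRingHom)) :
    ∃ e : P ≃ₐ[R] fib f i, ∀ x, fibFst f i (e x) = q₁ x ∧ fibSnd f i (e x) = q₂ x := by
  let Φ : P →ₐ[R] fib f i := (q₁.prod q₂).codRestrict (fib f i)
    fun x => RingHom.congr_fun (congrArg CommRingCat.Hom.hom hP.w) x
  have h : CommRingCat.ofHom Φ.toRingHom = (hP.isoIsPullback _ _ (isPullback_fib f i)).hom :=
    (isPullback_fib f i).hom_ext (by rw [IsPullback.isoIsPullback_hom_fst]; rfl)
      (by rw [IsPullback.isoIsPullback_hom_snd]; rfl)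
  refine ⟨AlgEquiv.ofBijective Φ ?_, fun x => ⟨rfl, rfl⟩⟩
  have hb : Function.Bijective (hP.isoIsPullback _ _ (isPullback_fib f i)).hom.hom :=
    (hP.isoIsPullback _ _ (isPullback_fib f i)).commRingCatIsoToRingEquiv.bijective
  rw [← h] at hb
  exact hb

end pullback

end Groth.Agent.PairColim11
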