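import Mathlib
import Groth.Agent.PairColim11.Colim

/-! Finitely presented approximations of a diagram `B → D ← D'`. -/

set_option autoImplicit false
universe u
open CategoryTheory CategoryTheory.Limits MvPolynomial

namespace Groth.Agent.PairColim11

variable {R B D D' : Type u} [CommRing R] [CommRing B] [CommRing D] [CommRing D']
  [Algebra R B] [Algebra R D] [Algebra R D']
variable (f : B →ₐ[R] D) (i : D' →ₐ[R] D) (s : D → D')

noncomputable def evB (S : Finset B) : MvPolynomial S R →ₐ[R] B := aeval fun b => (b : B)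

noncomputable def evD' (S : Finset B) (T : Finset D') : MvPolynomial (T ⊕ S) R →ₐ[R] D' :=
  aeval (Sum.elim (fun d => (d : D')) fun b => s (f (b : B)))

noncomputable def evD (S : Finset B) (T : Finset D') : MvPolynomial (T ⊕ S) R →ₐ[R] D :=
  i.comp (evD' f s S T)

variable (R) in
noncomputable def sig (S : Finset B) (T : Finset D') : MvPolynomial S R →ₐ[R] MvPolynomial (T ⊕ S) R :=
  rename Sum.inr

variable (R) in
noncomputable def upS {S S' : Finset B} (h : S ⊆ S') : MvPolynomial S R →ₐ[R] MvPolynomial S' R :=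
  rename fun b => ⟨b.1, h b.2⟩

variable (R) in
noncomputable def upT {S S' : Finset B} {T T' : Finset D'} (h : S ⊆ S') (h' : T ⊆ T') :
    MvPolynomial (T ⊕ S) R →ₐ[R] MvPolynomial (T' ⊕ S') R :=
  rename (Sum.map (fun d => ⟨d.1, h' d.2⟩) fun b => ⟨b.1, h b.2⟩)

theorem evD'_sig (S : Finset B) (T : Finset D') (x : MvPolynomial S R) (hs : ∀ d, i (s d) = d) :
    evD f i s S T (sig R S T x) = f (evB S x) :=
  AlgHom.congr_fun (algHom_ext fun b => by simp [evD, evD', sig, evB, hs] :
    (evD f i s S T).comp (sig R S T) = f.comp (evB S)) x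

theorem evB_upS {S S' : Finset B} (h : S ⊆ S') (x : MvPolynomial S R) : evB S' (upS R h x) = evB S x := by
  rw [evB, upS, aeval_rename]; rfl

theorem evD'_upT {S S' : Finset B} {T T' : Finset D'} (h : S ⊆ S') (h' : T ⊆ T') (x : MvPolynomial (T ⊕ S) R) :
    evD' f s S' T' (upT R h h' x) = evD' f s S T x := by
  rw [evD', upT, aeval_rename, evD']
  congr 2
  funext a; cases a <;> rfl

theorem upT_sig {S S' : Finset B} {T T' : Finset D'} (h : S ⊆ S') (h' : T ⊆ T') (x : MvPolynomial S R) :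
    upT R h h' (sig R S T x) = sig R S' T' (upS R h x) := by
  simp only [upT, sig, upS, rename_rename]; rfl

/-- An approximation of `B → D ← D'` by finitely presented algebras. -/
structure Idx : Type u where
  S : Finset B
  T : Finset D'
  KB : Ideal (MvPolynomial S R)
  K' : Ideal (MvPolynomial (T ⊕ S) R)
  K : Ideal (MvPolynomial (T ⊕ S) R)
  fgB : KB.FG
  fg' : K'.FG
  fgK : K.FG
  leB : ∀ x ∈ KB, evB S x = 0
  le' : ∀ x ∈ K', evD' f s S T x = 0
  leK : ∀ x ∈ K, evD f i s S T x = 0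
  sub : K' ≤ K
  sigma : KB ≤ K.comap (sig R S T)
  nil : K ≤ K'.radical
  surj : Function.Surjective f → ∀ t : T, ∃ p, X (Sum.inl t) - sig R S T p ∈ K
  snil : Function.Surjective f → (∀ x ∈ RingHom.ker f.toRingHom, IsNilpotent x) →
    K.comap (sig R S T) ≤ KB.radical
  integral : f.toRingHom.IsIntegral → ∀ t : T, ∃ p : Polynomial (MvPolynomial S R),
    p.Monic ∧ p.eval₂ (sig R S T).toRingHom (X (Sum.inl t)) ∈ K

variable {f i s}

instance : LE (Idx f i s) where
  le a b := ∃ (h : a.S ⊆ b.S) (h' : a.T ⊆ b.T), a.KB ≤ b.KB.comap (upS R h) ∧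
    a.K' ≤ b.K'.comap (upT R h h') ∧ a.K ≤ b.K.comap (upT R h h')

theorem upS_refl {S : Finset B} (h : S ⊆ S) (x : MvPolynomial S R) : upS R h x = x :=
  rename_id_apply x

theorem upT_refl {S : Finset B} {T : Finset D'} (h : S ⊆ S) (h' : T ⊆ T) (x : MvPolynomial (T ⊕ S) R) :
    upT R h h' x = x := by
  show rename (Sum.map id id) x = x
  rw [Sum.map_id_id, rename_id_apply]

instance : Preorder (Idx f i s) where
  le_refl a := ⟨subset_rfl, subset_rfl,
    fun x hx => by rwa [Ideal.mem_comap, upS_refl],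
    fun x hx => by rwa [Ideal.mem_comap, upT_refl],
    fun x hx => by rwa [Ideal.mem_comap, upT_refl]⟩
  le_trans a b c := fun ⟨h, h', e₁, e₂, e₃⟩ ⟨g, g', k₁, k₂, k₃⟩ => ⟨h.trans g, h'.trans g',
    fun x hx => by
      have := k₁ (e₁ hx)
      simp only [Ideal.mem_comap, upS, rename_rename] at this ⊢
      exact this,
    fun x hx => by
      have := k₂ (e₂ hx)
      simp only [Ideal.mem_comap, upT, rename_rename, Sum.map_comp_map] at this ⊢
      exact this,
    fun x hx => by
      have := k₃ (e₃ hx)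
      simp only [Ideal.mem_comap, upT, rename_rename, Sum.map_comp_map] at this ⊢
      exact this⟩

theorem Idx.subS {a b : Idx f i s} (h : a ≤ b) : a.S ⊆ b.S := h.1
theorem Idx.subT {a b : Idx f i s} (h : a ≤ b) : a.T ⊆ b.T := h.2.1

theorem fg_of_surjective {σ τ : Type*} [Finite σ] [Finite τ] {K : Ideal (MvPolynomial τ R)} (hK : K.FG)
    (g : MvPolynomial σ R →ₐ[R] MvPolynomial τ R) (hg : ∀ t, ∃ p, X t - g p ∈ K) : (K.comap g).FG := by
  haveI : Algebra.FinitePresentation R (MvPolynomial τ R ⧸ K) := Algebra.FinitePresentation.quotient hK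
  let ψ : MvPolynomial σ R →ₐ[R] MvPolynomial τ R ⧸ K := (Ideal.Quotient.mkₐ R K).comp g
  have hψ : Function.Surjective ψ := by
    rw [← AlgHom.range_eq_top, eq_top_iff]
    rintro y -
    obtain ⟨x, rfl⟩ := Ideal.Quotient.mkₐ_surjective R K y
    have : (aeval fun t => Ideal.Quotient.mkₐ R K (X t)) x = Ideal.Quotient.mkₐ R K x :=
      AlgHom.congr_fun (algHom_ext fun t => by simp) x
    rw [← this]
    have hr : (aeval fun t => Ideal.Quotient.mkₐ R K (X t) : MvPolynomial τ R →ₐ[R] _).range ≤ ψ.range := by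
      rw [← Algebra.adjoin_range_eq_range_aeval, Algebra.adjoin_le_iff]
      rintro _ ⟨t, rfl⟩
      obtain ⟨p, hp⟩ := hg t
      exact ⟨p, ((Ideal.Quotient.mk_eq_mk_iff_sub_mem _ _).2 hp).symm⟩
    exact hr ⟨x, rfl⟩
  have := Algebra.FinitePresentation.ker_fG_of_surjective ψ hψ
  have h' : RingHom.ker ψ.toRingHom = K.comap g := Ideal.ext fun x =>
    Ideal.Quotient.eq_zero_iff_mem
  exact h' ▸ this

variable (f i s) in
/-- Every finite amount of data is contained in an approximation having prescribed extra relations. -/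
theorem exists_idx_extra (hi : ∀ d, i (s d) = d) (hnil : ∀ x ∈ RingHom.ker i.toRingHom, IsNilpotent x)
    (S₀ : Finset B) (T : Finset D') (KB₀ : Ideal (MvPolynomial S₀ R)) (K'₀ K₀ : Ideal (MvPolynomial (T ⊕ S₀) R))
    (fgB : KB₀.FG) (fg' : K'₀.FG) (fgK : K₀.FG) (leB : ∀ x ∈ KB₀, evB S₀ x = 0)
    (le' : ∀ x ∈ K'₀, evD' f s S₀ T x = 0) (leK : ∀ x ∈ K₀, evD f i s S₀ T x = 0)
    (eB : ∀ S : Finset B, Ideal (MvPolynomial S R)) (eBfg : ∀ S, (eB S).FG)
    (eBle : ∀ S, ∀ x ∈ eB S, evB S x = 0)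
    (eD : ∀ (S : Finset B) (T : Finset D'), Ideal (MvPolynomial (T ⊕ S) R)) (eDfg : ∀ S T, (eD S T).FG)
    (eDle : ∀ S T, ∀ x ∈ eD S T, evD f i s S T x = 0) :
    ∃ (j : Idx f i s) (h : S₀ ⊆ j.S) (h' : T ⊆ j.T), KB₀ ≤ j.KB.comap (upS R h) ∧
      K'₀ ≤ j.K'.comap (upT R h h') ∧ K₀ ≤ j.K.comap (upT R h h') ∧ eB j.S ≤ j.KB ∧ eD j.S j.T ≤ j.K := by
  classical
  -- the elements of `B` needed by the generators of `D'`
  have hdata : ∀ d : D', ∃ E : Finset B, (Function.Surjective f → ∃ b ∈ E, f b = i d) ∧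
      (f.toRingHom.IsIntegral → ∃ q : Polynomial B, q.Monic ∧ q.eval₂ f.toRingHom (i d) = 0 ∧
        ∀ m, q.coeff m ∈ E) := by
    intro d
    let E₁ : Finset B := if hf : Function.Surjective f then {(hf (i d)).choose} else ∅
    let E₂ : Finset B := if hf : f.toRingHom.IsIntegral then insert 0 ((Finset.range ((hf (i d)).choose.natDegree + 1)).image (hf (i d)).choose.coeff) else ∅
    refine ⟨E₁ ∪ E₂, fun hf => ⟨(hf (i d)).choose, ?_, (hf (i d)).choose_spec⟩,
      fun hf => ⟨(hf (i d)).choose, (hf (i d)).choose_spec.1, (hf (i d)).choose_spec.2, fun m => ?_⟩⟩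
    · simp [E₁, hf]
    · refine Finset.mem_union_right _ ?_
      simp only [E₂, dif_pos hf]
      rcases le_or_gt m (hf (i d)).choose.natDegree with hm | hm
      · exact Finset.mem_insert_of_mem (Finset.mem_image_of_mem _ (Finset.mem_range.2 (by omega)))
      · rw [Polynomial.coeff_eq_zero_of_natDegree_lt hm]; exact Finset.mem_insert_self _ _
  choose E hE₁ hE₂ using hdata
  let S : Finset B := S₀ ∪ T.biUnion E
  have hS : S₀ ⊆ S := Finset.subset_union_left
  have hES : ∀ t : T, E t ⊆ S := fun t =>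
    (Finset.subset_biUnion_of_mem E t.2).trans Finset.subset_union_right
  -- relations
  have hsurj : ∀ t : T, ∃ p : MvPolynomial S R, Function.Surjective f →
      evD f i s S T (X (Sum.inl t) - sig R S T p) = 0 := fun t => by
    by_cases hf : Function.Surjective f
    · obtain ⟨b, hb, hfb⟩ := hE₁ t hf
      refine ⟨X ⟨b, hES t hb⟩, fun _ => ?_⟩
      rw [map_sub, evD'_sig f i s S T _ hi]
      simp [evD, evD', evB, hfb]
    · exact ⟨0, fun h => absurd h hf⟩
  choose ps hps using hsurj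
  have hint : ∀ t : T, ∃ q : Polynomial (MvPolynomial S R), f.toRingHom.IsIntegral → q.Monic ∧
      evD f i s S T (q.eval₂ (sig R S T).toRingHom (X (Sum.inl t))) = 0 := fun t => by
    by_cases hf : f.toRingHom.IsIntegral
    · obtain ⟨q, hq, hq0, hc⟩ := hE₂ t hf
      have hl : q ∈ Polynomial.lifts (evB S : MvPolynomial S R →ₐ[R] B).toRingHom := by
        rw [Polynomial.lifts_iff_coeff_lifts]
        exact fun m => ⟨X ⟨_, hES t (hc m)⟩, by simp [evB]⟩
      obtain ⟨p, hp, hpm⟩ : ∃ p : Polynomial (MvPolynomial S R), p.map (evB S : MvPolynomial S R →ₐ[R] B).toRingHom = q ∧ p.Monic := by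
        rcases subsingleton_or_nontrivial B with hB | hB
        · exact ⟨1, Subsingleton.elim _ _, Polynomial.monic_one⟩
        · obtain ⟨p, hp, -, hpm⟩ := Polynomial.lifts_and_degree_eq_and_monic hl hq
          exact ⟨p, hp, hpm⟩
      refine ⟨p, fun _ => ⟨hpm, ?_⟩⟩
      have hcomp : (evD f i s S T).toRingHom.comp (sig R S T).toRingHom = f.toRingHom.comp (evB S).toRingHom :=
        RingHom.ext fun x => evD'_sig f i s S T x hi
      have hX : (evD f i s S T).toRingHom (X (Sum.inl t)) = i t := by simp [evD, evD']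
      show (evD f i s S T).toRingHom _ = 0
      rw [Polynomial.hom_eval₂, hcomp, hX, ← Polynomial.eval₂_map, hp, hq0]
    · exact ⟨0, fun h => absurd h hf⟩
  choose qs hqs using hint
  let srel : Ideal (MvPolynomial (T ⊕ S) R) := if Function.Surjective f then
    Ideal.span (Set.range fun t => X (Sum.inl t) - sig R S T (ps t)) else ⊥
  let irel : Ideal (MvPolynomial (T ⊕ S) R) := if f.toRingHom.IsIntegral then
    Ideal.span (Set.range fun t => (qs t).eval₂ (sig R S T).toRingHom (X (Sum.inl t))) else ⊥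
  let K : Ideal (MvPolynomial (T ⊕ S) R) := ((K₀.map (upT R hS subset_rfl) ⊔ K'₀.map (upT R hS subset_rfl)) ⊔
    (KB₀.map (upS R hS) ⊔ eB S).map (sig R S T)) ⊔ ((srel ⊔ irel) ⊔ eD S T)
  have hKfg : K.FG := by
    refine Submodule.FG.sup (Submodule.FG.sup (Submodule.FG.sup (fgK.map _) (fg'.map _))
      (Ideal.FG.map (Submodule.FG.sup (fgB.map _) (eBfg S)) _)) (Submodule.FG.sup (Submodule.FG.sup ?_ ?_) (eDfg S T))
    · show srel.FG
      simp only [srel]; split
      · exact Submodule.fg_span (Set.finite_range _)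
      · exact Submodule.fg_bot
    · show irel.FG
      simp only [irel]; split
      · exact Submodule.fg_span (Set.finite_range _)
      · exact Submodule.fg_bot
  have hKle : K ≤ RingHom.ker (evD f i s S T).toRingHom := by
    simp only [K, sup_le_iff, Ideal.map_le_iff_le_comap]
    refine ⟨⟨⟨fun x hx => ?_, fun x hx => ?_⟩, fun x hx => ?_, fun x hx => ?_⟩, ⟨?_, ?_⟩, eDle S T⟩
    · show i (evD' f s S T (upT R hS subset_rfl x)) = 0
      rw [evD'_upT]; exact leK x hx
    · show i (evD' f s S T (upT R hS subset_rfl x)) = 0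
      rw [evD'_upT, le' x hx, map_zero]
    · show evD f i s S T (sig R S T (upS R hS x)) = 0
      rw [evD'_sig f i s S T _ hi, evB_upS, leB x hx, map_zero]
    · show evD f i s S T (sig R S T x) = 0
      rw [evD'_sig f i s S T _ hi, eBle S x hx, map_zero]
    · simp only [srel]; split
      · rename_i hf
        exact Ideal.span_le.2 (Set.range_subset_iff.2 fun t => hps t hf)
      · exact bot_le
    · simp only [irel]; split
      · rename_i hf
        exact Ideal.span_le.2 (Set.range_subset_iff.2 fun t => (hqs t hf).2)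
      · exact bot_le
  -- kill a power of the generators of `K`
  obtain ⟨gs, hgs⟩ := id hKfg
  have hpow : ∀ x ∈ gs, ∃ n : ℕ, evD' f s S T (x ^ (n + 1)) = 0 := fun x hx => by
    obtain ⟨n, hn⟩ := hnil (evD' f s S T x) (hKle (hgs ▸ Ideal.subset_span hx))
    exact ⟨n, by rw [map_pow, pow_succ, hn, zero_mul]⟩
  choose ns hns using hpow
  let K' : Ideal (MvPolynomial (T ⊕ S) R) := K'₀.map (upT R hS subset_rfl) ⊔
    Ideal.span (Set.range fun x : gs => (x : MvPolynomial (T ⊕ S) R) ^ (ns x x.2 + 1))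
  have hK'K : K' ≤ K := sup_le (le_sup_of_le_left (le_sup_of_le_left le_sup_right))
    (Ideal.span_le.2 (Set.range_subset_iff.2 fun x => Ideal.pow_mem_of_mem _ (hgs ▸ Ideal.subset_span x.2) _ (Nat.succ_pos _)))
  have hnilK : K ≤ K'.radical := by
    rw [← hgs, Ideal.span_le]
    intro x hx
    exact ⟨ns x hx + 1, Ideal.mem_sup_right (Ideal.subset_span ⟨⟨x, hx⟩, rfl⟩)⟩
  -- kill a power of the generators of the kernel of `B_j → D_j`
  have hKB : ∃ KB : Ideal (MvPolynomial S R), KB.FG ∧ KB₀.map (upS R hS) ⊔ eB S ≤ KB ∧ (∀ x ∈ KB, evB S x = 0) ∧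
      KB ≤ K.comap (sig R S T) ∧ (Function.Surjective f → (∀ x ∈ RingHom.ker f.toRingHom, IsNilpotent x) →
        K.comap (sig R S T) ≤ KB.radical) := by
    have h₁ : KB₀.map (upS R hS) ⊔ eB S ≤ K.comap (sig R S T) :=
      Ideal.map_le_iff_le_comap.1 (le_sup_of_le_left le_sup_right)
    have h₂ : KB₀.map (upS R hS) ⊔ eB S ≤ RingHom.ker (evB S : MvPolynomial S R →ₐ[R] B).toRingHom :=
      sup_le (a := KB₀.map (upS R hS)) (Ideal.map_le_iff_le_comap.2 fun x hx => show evB S (upS R hS x) = 0 by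
        rw [evB_upS]; exact leB x hx) (eBle S)
    by_cases hf : Function.Surjective f ∧ ∀ x ∈ RingHom.ker f.toRingHom, IsNilpotent x
    · have hfg : (K.comap (sig R S T)).FG := fg_of_surjective hKfg _ fun a => by
        rcases a with t | b
        · refine ⟨ps t, Ideal.mem_sup_right (Ideal.mem_sup_left (Ideal.mem_sup_left ?_))⟩
          show _ ∈ srel
          simp only [srel, if_pos hf.1]
          exact Ideal.subset_span ⟨t, rfl⟩
        · exact ⟨X b, by simp [sig]⟩
      obtain ⟨bs, hbs⟩ := hfg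
      have hp : ∀ x ∈ bs, ∃ n : ℕ, evB S (x ^ (n + 1)) = 0 := fun x hx => by
        have hx' : x ∈ K.comap (sig R S T) := hbs ▸ Ideal.subset_span hx
        obtain ⟨n, hn⟩ := hf.2 (evB S x) (show f (evB S x) = 0 by
          rw [← evD'_sig f i s S T _ hi]; exact hKle hx')
        exact ⟨n, by rw [map_pow, pow_succ, hn, zero_mul]⟩
      choose nb hnb using hp
      refine ⟨(KB₀.map (upS R hS) ⊔ eB S) ⊔ Ideal.span (Set.range fun x : bs => (x : MvPolynomial S R) ^ (nb x x.2 + 1)),
        Submodule.FG.sup (Submodule.FG.sup (fgB.map _) (eBfg S)) (Submodule.fg_span (Set.finite_range _)), le_sup_left, ?_, sup_le h₁ ?_, fun _ _ => ?_⟩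
      · exact sup_le (a := KB₀.map (upS R hS) ⊔ eB S) h₂ (Ideal.span_le.2 (Set.range_subset_iff.2 fun x => hnb x x.2))
      · exact Ideal.span_le.2 (Set.range_subset_iff.2 fun x =>
          Ideal.pow_mem_of_mem _ (hbs ▸ Ideal.subset_span x.2) _ (Nat.succ_pos _))
      · rw [← hbs, Ideal.span_le]
        intro x hx
        exact ⟨nb x hx + 1, Ideal.mem_sup_right (Ideal.subset_span ⟨⟨x, hx⟩, rfl⟩)⟩
    · exact ⟨_, Submodule.FG.sup (fgB.map _) (eBfg S), le_rfl, h₂, h₁, fun a b => absurd ⟨a, b⟩ hf⟩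
  obtain ⟨KB, hKBfg, hKB₀, hKBle, hKBσ, hKBnil⟩ := hKB
  refine ⟨{ S := S, T := T, KB := KB, K' := K', K := K, fgB := hKBfg, fgK := hKfg,
            fg' := Submodule.FG.sup (fg'.map _) (Submodule.fg_span (Set.finite_range _)),
            leB := hKBle, le' := ?_, leK := fun x hx => hKle hx, sub := hK'K, sigma := hKBσ, nil := hnilK,
            surj := fun hf t => ⟨ps t, Ideal.mem_sup_right (Ideal.mem_sup_left (Ideal.mem_sup_left ?_))⟩, snil := hKBnil,
            integral := fun hf t => ⟨qs t, (hqs t hf).1, Ideal.mem_sup_right (Ideal.mem_sup_left (Ideal.mem_sup_right ?_))⟩ },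
    hS, subset_rfl, Ideal.map_le_iff_le_comap.1 (le_sup_left.trans hKB₀), Ideal.map_le_iff_le_comap.1 le_sup_left,
    Ideal.map_le_iff_le_comap.1 (le_sup_of_le_left (le_sup_of_le_left le_sup_left)),
    le_sup_right.trans hKB₀, le_sup_right.trans le_sup_right⟩
  · refine sup_le (a := K'₀.map (upT R hS subset_rfl)) (c := RingHom.ker (evD' f s S T).toRingHom)
      (Ideal.map_le_iff_le_comap.2 fun x hx => ?_) (Ideal.span_le.2 (Set.range_subset_iff.2 fun x => hns x x.2))
    show evD' f s S T (upT R hS subset_rfl x) = 0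
    rw [evD'_upT]; exact le' x hx
  · show _ ∈ srel
    simp only [srel, if_pos hf]
    exact Ideal.subset_span ⟨t, rfl⟩
  · show _ ∈ irel
    simp only [irel, if_pos hf]
    exact Ideal.subset_span ⟨t, rfl⟩

variable (f i s) in
/-- Every finite amount of data is contained in an approximation. -/
theorem exists_idx (hi : ∀ d, i (s d) = d) (hnil : ∀ x ∈ RingHom.ker i.toRingHom, IsNilpotent x)
    (S₀ : Finset B) (T : Finset D') (KB₀ : Ideal (MvPolynomial S₀ R)) (K'₀ K₀ : Ideal (MvPolynomial (T ⊕ S₀) R))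
    (fgB : KB₀.FG) (fg' : K'₀.FG) (fgK : K₀.FG) (leB : ∀ x ∈ KB₀, evB S₀ x = 0)
    (le' : ∀ x ∈ K'₀, evD' f s S₀ T x = 0) (leK : ∀ x ∈ K₀, evD f i s S₀ T x = 0) :
    ∃ (j : Idx f i s) (h : S₀ ⊆ j.S) (h' : T ⊆ j.T), KB₀ ≤ j.KB.comap (upS R h) ∧
      K'₀ ≤ j.K'.comap (upT R h h') ∧ K₀ ≤ j.K.comap (upT R h h') := by
  obtain ⟨j, h, h', e₁, e₂, e₃, -⟩ := exists_idx_extra f i s hi hnil S₀ T KB₀ K'₀ K₀ fgB fg' fgK leB le' leK
    (fun _ => ⊥) (fun _ => Submodule.fg_bot) (fun _ x hx => by rw [Ideal.mem_bot.1 hx, map_zero])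
    (fun _ _ => ⊥) (fun _ _ => Submodule.fg_bot) (fun _ _ x hx => by rw [Ideal.mem_bot.1 hx, map_zero])
  exact ⟨j, h, h', e₁, e₂, e₃⟩

end Groth.Agent.PairColim11
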