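import Groth.Agent.PairColim11.Idx

/-! The diagrams of finitely presented algebras. -/

set_option autoImplicit false
universe u
open CategoryTheory CategoryTheory.Limits MvPolynomial

namespace Groth.Agent.PairColim11

variable {R B D D' : Type u} [CommRing R] [CommRing B] [CommRing D] [CommRing D']
  [Algebra R B] [Algebra R D] [Algebra R D']
variable {f : B →ₐ[R] D} {i : D' →ₐ[R] D} {s : D → D'}

namespace Idx

variable (j : Idx f i s)

abbrev GB : Type u := MvPolynomial j.S R ⧸ j.KB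
abbrev GD' : Type u := MvPolynomial (j.T ⊕ j.S) R ⧸ j.K'
abbrev GD : Type u := MvPolynomial (j.T ⊕ j.S) R ⧸ j.K

noncomputable def cB : j.GB →ₐ[R] B := Ideal.Quotient.liftₐ j.KB (evB j.S) j.leB
noncomputable def cD' : j.GD' →ₐ[R] D' := Ideal.Quotient.liftₐ j.K' (evD' f s j.S j.T) j.le'
noncomputable def cD : j.GD →ₐ[R] D := Ideal.Quotient.liftₐ j.K (evD f i s j.S j.T) j.leK
noncomputable def phi : j.GB →ₐ[R] j.GD := Ideal.quotientMapₐ j.K (sig R j.S j.T) j.sigma
noncomputable def psi : j.GD' →ₐ[R] j.GD := Ideal.quotientMapₐ j.K (AlgHom.id R _) j.sub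

theorem cD_phi (hi : ∀ d, i (s d) = d) (x : j.GB) : j.cD (j.phi x) = f (j.cB x) := by
  obtain ⟨p, rfl⟩ := Ideal.Quotient.mk_surjective x
  exact evD'_sig f i s j.S j.T p hi

theorem cD_psi (x : j.GD') : j.cD (j.psi x) = i (j.cD' x) := by
  obtain ⟨p, rfl⟩ := Ideal.Quotient.mk_surjective x
  rfl

theorem psi_surjective : Function.Surjective j.psi := fun x => by
  obtain ⟨p, rfl⟩ := Ideal.Quotient.mk_surjective x
  exact ⟨Ideal.Quotient.mk _ p, rfl⟩

theorem psi_nil (x : j.GD') (hx : j.psi x = 0) : IsNilpotent x := by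
  obtain ⟨p, rfl⟩ := Ideal.Quotient.mk_surjective x
  obtain ⟨n, hn⟩ := j.nil (Ideal.Quotient.eq_zero_iff_mem.1 hx)
  exact ⟨n, by rw [← map_pow, Ideal.Quotient.eq_zero_iff_mem]; exact hn⟩

theorem phi_surjective (hf : Function.Surjective f) : Function.Surjective j.phi := fun x => by
  obtain ⟨p, rfl⟩ := Ideal.Quotient.mk_surjective x
  show Ideal.Quotient.mk j.K p ∈ j.phi.range
  induction p using MvPolynomial.induction_on with
  | C r => exact ⟨algebraMap R j.GB r, j.phi.commutes r⟩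
  | add a b ha hb => rw [map_add]; exact add_mem ha hb
  | mul_X a v ha =>
    rw [map_mul]
    refine mul_mem ha ?_
    rcases v with t | b
    · obtain ⟨q, hq⟩ := j.surj hf t
      exact ⟨Ideal.Quotient.mk _ q, ((Ideal.Quotient.mk_eq_mk_iff_sub_mem _ _).2 hq).symm⟩
    · exact ⟨Ideal.Quotient.mk _ (X b), by simp [phi, sig]⟩

theorem phi_nil (hf : Function.Surjective f) (hn : ∀ x ∈ RingHom.ker f.toRingHom, IsNilpotent x)
    (x : j.GB) (hx : j.phi x = 0) : IsNilpotent x := by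
  obtain ⟨p, rfl⟩ := Ideal.Quotient.mk_surjective x
  obtain ⟨n, hn⟩ := j.snil hf hn (Ideal.mem_comap.2 (Ideal.Quotient.eq_zero_iff_mem.1
    (show Ideal.Quotient.mk j.K (sig R j.S j.T p) = 0 from hx)))
  exact ⟨n, by rw [← map_pow, Ideal.Quotient.eq_zero_iff_mem]; exact hn⟩

theorem phi_integral (hf : f.toRingHom.IsIntegral) : j.phi.toRingHom.IsIntegral := fun x => by
  obtain ⟨p, rfl⟩ := Ideal.Quotient.mk_surjective x
  induction p using MvPolynomial.induction_on with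
  | C r =>
    have : (Ideal.Quotient.mk j.K) (C r) = j.phi.toRingHom (algebraMap R j.GB r) := (j.phi.commutes r).symm
    rw [this]; exact RingHom.isIntegralElem_map _
  | add a b ha hb => rw [map_add]; exact ha.add _ hb
  | mul_X a v ha =>
    rw [map_mul]
    refine ha.mul _ ?_
    rcases v with t | b
    · obtain ⟨q, hq, hq0⟩ := j.integral hf t
      refine ⟨q.map (Ideal.Quotient.mk j.KB), hq.map _, ?_⟩
      rw [Polynomial.eval₂_map]
      have h := Ideal.Quotient.eq_zero_iff_mem.2 hq0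
      rw [Polynomial.hom_eval₂] at h
      exact h
    · have : (Ideal.Quotient.mk j.K) (X (Sum.inr b)) = j.phi.toRingHom (Ideal.Quotient.mk _ (X b)) := by simp [phi, sig]
      rw [this]; exact RingHom.isIntegralElem_map _

variable {j} {j' : Idx f i s} (h : j ≤ j')

noncomputable def tB : j.GB →ₐ[R] j'.GB := Ideal.quotientMapₐ j'.KB (upS R h.1) h.2.2.1
noncomputable def tD' : j.GD' →ₐ[R] j'.GD' := Ideal.quotientMapₐ j'.K' (upT R h.1 h.2.1) h.2.2.2.1
noncomputable def tD : j.GD →ₐ[R] j'.GD := Ideal.quotientMapₐ j'.K (upT R h.1 h.2.1) h.2.2.2.2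

theorem cB_tB (x : j.GB) : j'.cB (tB h x) = j.cB x := by
  obtain ⟨p, rfl⟩ := Ideal.Quotient.mk_surjective x
  exact evB_upS h.1 p

theorem cD'_tD' (x : j.GD') : j'.cD' (tD' h x) = j.cD' x := by
  obtain ⟨p, rfl⟩ := Ideal.Quotient.mk_surjective x
  exact evD'_upT f s h.1 h.2.1 p

theorem cD_tD (x : j.GD) : j'.cD (tD h x) = j.cD x := by
  obtain ⟨p, rfl⟩ := Ideal.Quotient.mk_surjective x
  exact congrArg i (evD'_upT f s h.1 h.2.1 p)

theorem phi_tB (x : j.GB) : j'.phi (tB h x) = tD h (j.phi x) := by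
  obtain ⟨p, rfl⟩ := Ideal.Quotient.mk_surjective x
  exact congrArg (Ideal.Quotient.mk j'.K) (upT_sig h.1 h.2.1 p).symm

theorem psi_tD' (x : j.GD') : j'.psi (tD' h x) = tD h (j.psi x) := by
  obtain ⟨p, rfl⟩ := Ideal.Quotient.mk_surjective x
  rfl

/-- The fibre product at a stage. -/
abbrev GP (j : Idx f i s) : Type u := fib j.phi j.psi

noncomputable def tP : j.GP →ₐ[R] j'.GP :=
  (((AlgHom.prodMap (tB h) (tD' h))).comp (fib j.phi j.psi).val).codRestrict (fib j'.phi j'.psi)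
    fun x => ((phi_tB h x.1.1).trans (congrArg (tD h) x.2)).trans (psi_tD' h x.1.2).symm

theorem tB_id (x : j.GB) : tB (le_refl j) x = x := by
  obtain ⟨p, rfl⟩ := Ideal.Quotient.mk_surjective x
  exact congrArg (Ideal.Quotient.mk j.KB) (upS_refl subset_rfl p)

theorem tD'_id (x : j.GD') : tD' (le_refl j) x = x := by
  obtain ⟨p, rfl⟩ := Ideal.Quotient.mk_surjective x
  exact congrArg (Ideal.Quotient.mk j.K') (upT_refl subset_rfl subset_rfl p)

theorem tD_id (x : j.GD) : tD (le_refl j) x = x := by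
  obtain ⟨p, rfl⟩ := Ideal.Quotient.mk_surjective x
  exact congrArg (Ideal.Quotient.mk j.K) (upT_refl subset_rfl subset_rfl p)

theorem tB_comp {j'' : Idx f i s} (h' : j' ≤ j'') (x : j.GB) : tB h' (tB h x) = tB (h.trans h') x := by
  obtain ⟨p, rfl⟩ := Ideal.Quotient.mk_surjective x
  refine congrArg (Ideal.Quotient.mk j''.KB) ?_
  simp only [AlgHom.toRingHom_eq_coe, RingHom.coe_coe, upS, rename_rename]; rfl

theorem tD'_comp {j'' : Idx f i s} (h' : j' ≤ j'') (x : j.GD') : tD' h' (tD' h x) = tD' (h.trans h') x := by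
  obtain ⟨p, rfl⟩ := Ideal.Quotient.mk_surjective x
  refine congrArg (Ideal.Quotient.mk j''.K') ?_
  simp only [AlgHom.toRingHom_eq_coe, RingHom.coe_coe, upT, rename_rename, Sum.map_comp_map]; rfl

theorem tD_comp {j'' : Idx f i s} (h' : j' ≤ j'') (x : j.GD) : tD h' (tD h x) = tD (h.trans h') x := by
  obtain ⟨p, rfl⟩ := Ideal.Quotient.mk_surjective x
  refine congrArg (Ideal.Quotient.mk j''.K) ?_
  simp only [AlgHom.toRingHom_eq_coe, RingHom.coe_coe, upT, rename_rename, Sum.map_comp_map]; rfl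

end Idx

variable (f i s)

noncomputable def DB := system (fun j : Idx f i s => j.GB) (fun _ _ h => Idx.tB h)
  (fun _ x => Idx.tB_id x) (fun _ _ _ h h' x => Idx.tB_comp h h' x)
noncomputable def DD' := system (fun j : Idx f i s => j.GD') (fun _ _ h => Idx.tD' h)
  (fun _ x => Idx.tD'_id x) (fun _ _ _ h h' x => Idx.tD'_comp h h' x)
noncomputable def DD := system (fun j : Idx f i s => j.GD) (fun _ _ h => Idx.tD h)
  (fun _ x => Idx.tD_id x) (fun _ _ _ h h' x => Idx.tD_comp h h' x)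
noncomputable def DP := system (fun j : Idx f i s => j.GP) (fun _ _ h => Idx.tP h)
  (fun _ x => Subtype.ext (Prod.ext (Idx.tB_id _) (Idx.tD'_id _)))
  (fun _ _ _ h h' x => Subtype.ext (Prod.ext (Idx.tB_comp h h' _) (Idx.tD'_comp h h' _)))

/-- A natural transformation of systems. -/
noncomputable def sysHom {I : Type u} [Preorder I] {G G' : I → Type u} [∀ j, CommRing (G j)] [∀ j, Algebra R (G j)]
    [∀ j, CommRing (G' j)] [∀ j, Algebra R (G' j)]
    {t : ∀ i j, i ≤ j → (G i →ₐ[R] G j)} {hid : ∀ i x, t i i le_rfl x = x}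
    {hc : ∀ i j k (h₁ : i ≤ j) (h₂ : j ≤ k) x, t j k h₂ (t i j h₁ x) = t i k (h₁.trans h₂) x}
    {t' : ∀ i j, i ≤ j → (G' i →ₐ[R] G' j)} {hid' : ∀ i x, t' i i le_rfl x = x}
    {hc' : ∀ i j k (h₁ : i ≤ j) (h₂ : j ≤ k) x, t' j k h₂ (t' i j h₁ x) = t' i k (h₁.trans h₂) x}
    (a : ∀ j, G j →ₐ[R] G' j) (ha : ∀ (j j' : I) (h : j ≤ j') (x : G j), a j' (t j j' h x) = t' j j' h (a j x)) :
    system G t hid hc ⟶ system G' t' hid' hc' where
  app j := (a j).toUnder
  naturality j j' φ := by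
    apply CommRingCat.mkUnder_ext
    exact fun x => ha j j' φ.le x

/-- A cocone on a system. -/
noncomputable def sysCocone {I : Type u} [Preorder I] {G : I → Type u} [∀ j, CommRing (G j)] [∀ j, Algebra R (G j)]
    {t : ∀ i j, i ≤ j → (G i →ₐ[R] G j)} {hid : ∀ i x, t i i le_rfl x = x}
    {hc : ∀ i j k (h₁ : i ≤ j) (h₂ : j ≤ k) x, t j k h₂ (t i j h₁ x) = t i k (h₁.trans h₂) x}
    {A : Type u} [CommRing A] [Algebra R A] (a : ∀ j, G j →ₐ[R] A)
    (ha : ∀ (j j' : I) (h : j ≤ j') (x : G j), a j' (t j j' h x) = a j x) :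
    system G t hid hc ⟶ (Functor.const I).obj (Under.mk (CommRingCat.ofHom (algebraMap R A))) where
  app j := (a j).toUnder
  naturality j j' φ := by
    apply CommRingCat.mkUnder_ext
    exact fun x => ha j j' φ.le x

noncomputable def phiT : DB f i s ⟶ DD f i s :=
  sysHom (fun j => j.phi) fun _ _ h x => Idx.phi_tB h x

noncomputable def psiT : DD' f i s ⟶ DD f i s :=
  sysHom (fun j => j.psi) fun _ _ h x => Idx.psi_tD' h x

noncomputable def pi₁ : DP f i s ⟶ DB f i s :=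
  sysHom (fun j => fibFst j.phi j.psi) fun _ _ _ _ => rfl

noncomputable def pi₂ : DP f i s ⟶ DD' f i s :=
  sysHom (fun j => fibSnd j.phi j.psi) fun _ _ _ _ => rfl

noncomputable def cocB : DB f i s ⟶ (Functor.const (Idx f i s)).obj (Under.mk (CommRingCat.ofHom (algebraMap R B))) :=
  sysCocone (fun j => j.cB) fun _ _ h x => Idx.cB_tB h x

noncomputable def cocD' : DD' f i s ⟶ (Functor.const (Idx f i s)).obj (Under.mk (CommRingCat.ofHom (algebraMap R D'))) :=
  sysCocone (fun j => j.cD') fun _ _ h x => Idx.cD'_tD' h x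

noncomputable def cocD : DD f i s ⟶ (Functor.const (Idx f i s)).obj (Under.mk (CommRingCat.ofHom (algebraMap R D))) :=
  sysCocone (fun j => j.cD) fun _ _ h x => Idx.cD_tD h x

variable {P : Type u} [CommRing P] [Algebra R P] (e : P ≃ₐ[R] fib f i) (hi : ∀ d, i (s d) = d)

noncomputable def cP (j : Idx f i s) : j.GP →ₐ[R] P :=
  e.symm.toAlgHom.comp (((AlgHom.prodMap j.cB j.cD').comp (fib j.phi j.psi).val).codRestrict (fib f i)
    fun x => ((j.cD_phi hi x.1.1).symm.trans (congrArg j.cD x.2)).trans (j.cD_psi x.1.2))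

theorem e_cP (j : Idx f i s) (x : j.GP) : (e (cP f i s e hi j x)).1 = (j.cB x.1.1, j.cD' x.1.2) := by
  simp [cP]
  rfl

noncomputable def cocP : DP f i s ⟶ (Functor.const (Idx f i s)).obj (Under.mk (CommRingCat.ofHom (algebraMap R P))) :=
  sysCocone (fun j => cP f i s e hi j) fun j j' h x => by
    apply e.injective
    apply Subtype.ext
    rw [e_cP, e_cP]
    exact Prod.ext (Idx.cB_tB h _) (Idx.cD'_tD' h _)

section colim

variable (hnil : ∀ x ∈ RingHom.ker i.toRingHom, IsNilpotent x)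

include hi hnil

theorem nonempty_idx : Nonempty (Idx f i s) := by
  obtain ⟨j, -⟩ := exists_idx f i s hi hnil ∅ ∅ ⊥ ⊥ ⊥ Submodule.fg_bot Submodule.fg_bot Submodule.fg_bot
    (fun x hx => by rw [Ideal.mem_bot.1 hx, map_zero]) (fun x hx => by rw [Ideal.mem_bot.1 hx, map_zero])
    (fun x hx => by rw [Ideal.mem_bot.1 hx, map_zero])
  exact ⟨j⟩

theorem directed : IsDirected (Idx f i s) (· ≤ ·) := by
  classical
  refine ⟨fun a b => ?_⟩
  have h₁ : a.S ⊆ a.S ∪ b.S := Finset.subset_union_left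
  have h₂ : b.S ⊆ a.S ∪ b.S := Finset.subset_union_right
  have g₁ : a.T ⊆ a.T ∪ b.T := Finset.subset_union_left
  have g₂ : b.T ⊆ a.T ∪ b.T := Finset.subset_union_right
  have l₁ : ∀ x ∈ a.KB.map (upS R h₁) ⊔ b.KB.map (upS R h₂), evB (a.S ∪ b.S) x = 0 :=
    sup_le (a := a.KB.map (upS R h₁)) (c := RingHom.ker (evB (a.S ∪ b.S) : _ →ₐ[R] B).toRingHom)
      (Ideal.map_le_iff_le_comap.2 fun x hx => (evB_upS h₁ x).trans (a.leB x hx))
      (Ideal.map_le_iff_le_comap.2 fun x hx => (evB_upS h₂ x).trans (b.leB x hx))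
  have l₂ : ∀ x ∈ a.K'.map (upT R h₁ g₁) ⊔ b.K'.map (upT R h₂ g₂), evD' f s (a.S ∪ b.S) (a.T ∪ b.T) x = 0 :=
    sup_le (a := a.K'.map (upT R h₁ g₁)) (c := RingHom.ker (evD' f s (a.S ∪ b.S) (a.T ∪ b.T)).toRingHom)
      (Ideal.map_le_iff_le_comap.2 fun x hx => (evD'_upT f s h₁ g₁ x).trans (a.le' x hx))
      (Ideal.map_le_iff_le_comap.2 fun x hx => (evD'_upT f s h₂ g₂ x).trans (b.le' x hx))
  have l₃ : ∀ x ∈ a.K.map (upT R h₁ g₁) ⊔ b.K.map (upT R h₂ g₂), evD f i s (a.S ∪ b.S) (a.T ∪ b.T) x = 0 :=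
    sup_le (a := a.K.map (upT R h₁ g₁)) (c := RingHom.ker (evD f i s (a.S ∪ b.S) (a.T ∪ b.T)).toRingHom)
      (Ideal.map_le_iff_le_comap.2 fun x hx => (congrArg i (evD'_upT f s h₁ g₁ x)).trans (a.leK x hx))
      (Ideal.map_le_iff_le_comap.2 fun x hx => (congrArg i (evD'_upT f s h₂ g₂ x)).trans (b.leK x hx))
  obtain ⟨j, h, h', e₁, e₂, e₃⟩ := exists_idx f i s hi hnil (a.S ∪ b.S) (a.T ∪ b.T)
    (a.KB.map (upS R h₁) ⊔ b.KB.map (upS R h₂)) (a.K'.map (upT R h₁ g₁) ⊔ b.K'.map (upT R h₂ g₂))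
    (a.K.map (upT R h₁ g₁) ⊔ b.K.map (upT R h₂ g₂))
    (Submodule.FG.sup (a.fgB.map _) (b.fgB.map _)) (Submodule.FG.sup (a.fg'.map _) (b.fg'.map _))
    (Submodule.FG.sup (a.fgK.map _) (b.fgK.map _)) l₁ l₂ l₃
  · refine ⟨j, ⟨h₁.trans h, g₁.trans h', fun x hx => ?_, fun x hx => ?_, fun x hx => ?_⟩,
      ⟨h₂.trans h, g₂.trans h', fun x hx => ?_, fun x hx => ?_, fun x hx => ?_⟩⟩
    · have := e₁ (Ideal.mem_sup_left (Ideal.mem_map_of_mem (upS R h₁) hx))
      simp only [Ideal.mem_comap, upS, rename_rename] at this ⊢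
      exact this
    · have := e₂ (Ideal.mem_sup_left (Ideal.mem_map_of_mem (upT R h₁ g₁) hx))
      simp only [Ideal.mem_comap, upT, rename_rename, Sum.map_comp_map] at this ⊢
      exact this
    · have := e₃ (Ideal.mem_sup_left (Ideal.mem_map_of_mem (upT R h₁ g₁) hx))
      simp only [Ideal.mem_comap, upT, rename_rename, Sum.map_comp_map] at this ⊢
      exact this
    · have := e₁ (Ideal.mem_sup_right (Ideal.mem_map_of_mem (upS R h₂) hx))
      simp only [Ideal.mem_comap, upS, rename_rename] at this ⊢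
      exact this
    · have := e₂ (Ideal.mem_sup_right (Ideal.mem_map_of_mem (upT R h₂ g₂) hx))
      simp only [Ideal.mem_comap, upT, rename_rename, Sum.map_comp_map] at this ⊢
      exact this
    · have := e₃ (Ideal.mem_sup_right (Ideal.mem_map_of_mem (upT R h₂ g₂) hx))
      simp only [Ideal.mem_comap, upT, rename_rename, Sum.map_comp_map] at this ⊢
      exact this

theorem exists_kill (j : Idx f i s) (p : MvPolynomial j.S R) (q r : MvPolynomial (j.T ⊕ j.S) R)
    (hp : evB j.S p = 0) (hq : evD' f s j.S j.T q = 0) (hr : evD f i s j.S j.T r = 0) :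
    ∃ (j' : Idx f i s) (h : j ≤ j'), Idx.tB h (Ideal.Quotient.mk _ p) = 0 ∧
      Idx.tD' h (Ideal.Quotient.mk _ q) = 0 ∧ Idx.tD h (Ideal.Quotient.mk _ r) = 0 := by
  obtain ⟨j', h, h', e₁, e₂, e₃⟩ := exists_idx f i s hi hnil j.S j.T (j.KB ⊔ Ideal.span {p}) (j.K' ⊔ Ideal.span {q})
    (j.K ⊔ Ideal.span {r}) (Submodule.FG.sup j.fgB (Submodule.fg_span_singleton p))
    (Submodule.FG.sup j.fg' (Submodule.fg_span_singleton q)) (Submodule.FG.sup j.fgK (Submodule.fg_span_singleton r))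
    (sup_le (a := j.KB) (c := RingHom.ker (evB j.S : _ →ₐ[R] B).toRingHom) j.leB ((Ideal.span_singleton_le_iff_mem _).2 hp))
    (sup_le (a := j.K') (c := RingHom.ker (evD' f s j.S j.T).toRingHom) j.le' ((Ideal.span_singleton_le_iff_mem _).2 hq))
    (sup_le (a := j.K) (c := RingHom.ker (evD f i s j.S j.T).toRingHom) j.leK ((Ideal.span_singleton_le_iff_mem _).2 hr))
  exact ⟨j', ⟨h, h', le_sup_left.trans e₁, le_sup_left.trans e₂, le_sup_left.trans e₃⟩,
    Ideal.Quotient.eq_zero_iff_mem.2 (e₁ (Ideal.mem_sup_right (Ideal.mem_span_singleton_self p))),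
    Ideal.Quotient.eq_zero_iff_mem.2 (e₂ (Ideal.mem_sup_right (Ideal.mem_span_singleton_self q))),
    Ideal.Quotient.eq_zero_iff_mem.2 (e₃ (Ideal.mem_sup_right (Ideal.mem_span_singleton_self r)))⟩

theorem colimB : Nonempty (IsColimit (Cocone.mk _ (cocB f i s))) := by
  have := nonempty_idx f i s hi hnil
  have := directed f i s hi hnil
  refine nonempty_isColimit _ _ (fun b => ?_) fun j x hx => ?_
  · obtain ⟨j, h, -⟩ := exists_idx f i s hi hnil {b} ∅ ⊥ ⊥ ⊥ Submodule.fg_bot Submodule.fg_bot Submodule.fg_bot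
      (fun x hx => by rw [Ideal.mem_bot.1 hx, map_zero]) (fun x hx => by rw [Ideal.mem_bot.1 hx, map_zero])
      (fun x hx => by rw [Ideal.mem_bot.1 hx, map_zero])
    exact ⟨j, Ideal.Quotient.mk j.KB (X ⟨b, h (Finset.mem_singleton_self b)⟩),
      (show evB (R := R) j.S (X ⟨b, h (Finset.mem_singleton_self b)⟩) = b from aeval_X _ _)⟩
  · obtain ⟨p, rfl⟩ := Ideal.Quotient.mk_surjective (I := j.KB) x
    obtain ⟨j', h, h1, -⟩ := exists_kill f i s hi hnil j p 0 0 hx (map_zero _) (map_zero _)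
    exact ⟨j', h, h1⟩

theorem colimD' : Nonempty (IsColimit (Cocone.mk _ (cocD' f i s))) := by
  have := nonempty_idx f i s hi hnil
  have := directed f i s hi hnil
  refine nonempty_isColimit _ _ (fun d => ?_) fun j x hx => ?_
  · obtain ⟨j, -, h, -⟩ := exists_idx f i s hi hnil ∅ {d} ⊥ ⊥ ⊥ Submodule.fg_bot Submodule.fg_bot Submodule.fg_bot
      (fun x hx => by rw [Ideal.mem_bot.1 hx, map_zero]) (fun x hx => by rw [Ideal.mem_bot.1 hx, map_zero])
      (fun x hx => by rw [Ideal.mem_bot.1 hx, map_zero])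
    exact ⟨j, Ideal.Quotient.mk j.K' (X (Sum.inl ⟨d, h (Finset.mem_singleton_self d)⟩)),
      (show evD' f s j.S j.T (X (Sum.inl ⟨d, h (Finset.mem_singleton_self d)⟩)) = d from aeval_X _ _)⟩
  · obtain ⟨p, rfl⟩ := Ideal.Quotient.mk_surjective (I := j.K') x
    obtain ⟨j', h, -, h1, -⟩ := exists_kill f i s hi hnil j 0 p 0 (map_zero _) hx (map_zero _)
    exact ⟨j', h, h1⟩

theorem colimD : Nonempty (IsColimit (Cocone.mk _ (cocD f i s))) := by
  have := nonempty_idx f i s hi hnil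
  have := directed f i s hi hnil
  refine nonempty_isColimit _ _ (fun d => ?_) fun j x hx => ?_
  · obtain ⟨j, -, h, -⟩ := exists_idx f i s hi hnil ∅ {s d} ⊥ ⊥ ⊥ Submodule.fg_bot Submodule.fg_bot Submodule.fg_bot
      (fun x hx => by rw [Ideal.mem_bot.1 hx, map_zero]) (fun x hx => by rw [Ideal.mem_bot.1 hx, map_zero])
      (fun x hx => by rw [Ideal.mem_bot.1 hx, map_zero])
    exact ⟨j, Ideal.Quotient.mk j.K (X (Sum.inl ⟨s d, h (Finset.mem_singleton_self _)⟩)),
      (congrArg i (aeval_X _ _)).trans (hi d)⟩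
  · obtain ⟨p, rfl⟩ := Ideal.Quotient.mk_surjective (I := j.K) x
    obtain ⟨j', h, -, -, h1⟩ := exists_kill f i s hi hnil j 0 0 p (map_zero _) (map_zero _) hx
    exact ⟨j', h, h1⟩

theorem colimP : Nonempty (IsColimit (Cocone.mk _ (cocP f i s e hi))) := by
  have := nonempty_idx f i s hi hnil
  have := directed f i s hi hnil
  refine nonempty_isColimit _ _ (fun a => ?_) fun j x hx => ?_
  · obtain ⟨⟨b, d⟩, hbd⟩ : ∃ y : fib f i, y = e a := ⟨_, rfl⟩
    have hw : f b.1 = i b.2 := d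
    obtain ⟨j, h, h', -, -, e₃⟩ := exists_idx f i s hi hnil {b.1} {b.2} ⊥ ⊥
      (Ideal.span {sig R {b.1} {b.2} (X ⟨b.1, Finset.mem_singleton_self _⟩) - X (Sum.inl ⟨b.2, Finset.mem_singleton_self _⟩)})
      Submodule.fg_bot Submodule.fg_bot (Submodule.fg_span_singleton _)
      (fun x hx => by rw [Ideal.mem_bot.1 hx, map_zero]) (fun x hx => by rw [Ideal.mem_bot.1 hx, map_zero])
      (fun x hx => by
        obtain ⟨c, rfl⟩ := Ideal.mem_span_singleton'.1 hx
        rw [map_mul, map_sub, evD'_sig f i s _ _ _ hi]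
        simp [evB, evD, evD', hw])
    have hm := e₃ (Ideal.mem_span_singleton_self _)
    rw [Ideal.mem_comap, map_sub, upT_sig] at hm
    simp only [upS, upT, rename_X, Sum.map_inl] at hm
    refine ⟨j, ⟨(Ideal.Quotient.mk j.KB (X ⟨b.1, h (Finset.mem_singleton_self _)⟩),
      Ideal.Quotient.mk j.K' (X (Sum.inl ⟨b.2, h' (Finset.mem_singleton_self _)⟩))),
      (Ideal.Quotient.mk_eq_mk_iff_sub_mem _ _).2 hm⟩, ?_⟩
    show cP f i s e hi j _ = a
    apply e.injective
    rw [← hbd]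
    apply Subtype.ext
    rw [e_cP]
    exact Prod.ext (aeval_X _ _) (aeval_X _ _)
  · obtain ⟨⟨b, d⟩, hbd⟩ := x
    obtain ⟨p, rfl⟩ := Ideal.Quotient.mk_surjective (I := j.KB) b
    obtain ⟨q, rfl⟩ := Ideal.Quotient.mk_surjective (I := j.K') d
    have h0 := e_cP f i s e hi j ⟨(Ideal.Quotient.mk _ p, Ideal.Quotient.mk _ q), hbd⟩
    rw [show cP f i s e hi j _ = 0 from hx, map_zero] at h0
    obtain ⟨j', h, h1, h2, -⟩ := exists_kill f i s hi hnil j p q 0 (congrArg Prod.fst h0).symm (congrArg Prod.snd h0).symm (map_zero _)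
    exact ⟨j', h, Subtype.ext (Prod.ext h1 h2)⟩

end colim

end Groth.Agent.PairColim11
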